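import Cfsg.Agent.H10.J2S.OutChk
import Cfsg.Agent.Lib.Helper96.J2Out

/-!
# Automorphisms of J2 permute the reflections (helper10)

A reflection is the fourth power of an element of order 8, and conversely.
-/

set_option autoImplicit false

namespace Cfsg.Agent.H10.J2S

open Cfsg.Agent.H9.J2 Cfsg.Spor MulAction

theorem base_lt {b : ℕ} (hb : b ∈ [0, 19, 12, 2]) : b < 315 := by
  simp only [List.mem_cons, List.not_mem_nil, or_false] at hb
  rcases hb with rfl | rfl | rfl | rfl <;> norm_num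

/-- an element of order 8 fixing the reflection 0 has that reflection as its fourth power -/
theorem pow4_of_fix {u : J2} (h0 : u • xk 0 = xk 0) (hu : orderOf u = 8) : u ^ 4 = io (xk 0) := by
  obtain ⟨w, hw, rfl⟩ := stab_exhaust u h0
  have h8 : powOK w 8 = true := by
    unfold powOK
    rw [List.all_eq_true]
    intro b hb
    have hb' := base_lt hb
    obtain ⟨e, l⟩ := (Rl.word w).pow 8 b hb'
    have e8 : jW w ^ 8 = 1 := by rw [← hu]; exact pow_orderOf_eq_one _
    rw [e8, one_smul] at e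
    rw [(xk_inj hb' l e).symm]
    exact Nat.beq_refl b
  have h4 : ¬ powOK w 4 = true := by
    intro h
    have := orderOf_dvd_of_pow_eq_one (pow_eq_one h)
    rw [hu] at this
    exact absurd this (by norm_num)
  rcases ord8_ok w hw h8 with h | h
  · exact absurd h h4
  · refine eq_of_agree ((Rl.word w).pow 4) (Rl.io (by norm_num)) ?_
    intro p hp
    unfold agree4 at h
    exact Nat.eq_of_beq_eq_true (List.all_eq_true.1 h p hp)

theorem ord_w8s : orderOf (jW w8s) = 8 := by
  refine orderOf_eq_of_pow_and_pow_div_prime (by norm_num) (pow_eq_one w8s_pow) ?_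
  intro p hp hd
  have hp2 : p = 2 := by
    have h2 : p ∣ 2 := hp.dvd_of_dvd_pow (show p ∣ 2 ^ 3 from hd)
    exact (Nat.prime_dvd_prime_iff_eq hp Nat.prime_two).1 h2
  subst hp2
  intro e
  obtain ⟨e1, l1⟩ := (Rl.word w8s).pow (8 / 2) 1 (by norm_num)
  rw [e, one_smul] at e1
  exact w8s_ne (xk_inj l1 (by norm_num) e1.symm)

theorem conj_pow' (g u : J2) (n : ℕ) : (g * u * g⁻¹) ^ n = g * u ^ n * g⁻¹ := by
  induction n with
  | zero => simp
  | succ n ih => rw [pow_succ, ih, pow_succ]; group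

theorem orderOf_conj' (g u : J2) : orderOf (g * u * g⁻¹) = orderOf u := by
  have := (MulAut.conj g).orderOf_eq u
  rwa [MulAut.conj_apply] at this

/-- every reflection is the fourth power of an element of order 8 -/
theorem io_eq_pow4 (x : XR) : ∃ u : J2, orderOf u = 8 ∧ u ^ 4 = io x := by
  obtain ⟨g, hg⟩ := MulAction.exists_smul_eq J2 (xk 0) x
  have hfix : jW w8s • xk 0 = xk 0 := by
    obtain ⟨e, -⟩ := Rl.word w8s 0 (by norm_num)
    rw [e, stab_fix w8s w8s_mem]
  refine ⟨g * jW w8s * g⁻¹, by rw [orderOf_conj', ord_w8s], ?_⟩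
  rw [conj_pow', pow4_of_fix hfix ord_w8s, ← io_smul, hg]

/-- the fourth power of an element of order 8 is a reflection -/
theorem pow4_eq_io {u : J2} (hu : orderOf u = 8) : ∃ x : XR, u ^ 4 = io x := by
  have hodd : Odd (Nat.card XR) := by rw [card_XR]; decide
  obtain ⟨x, hx⟩ := Cfsg.Agent.Lib.Helper96.J2Out.exists_fixed_of_orderOf_eight hodd u hu
  obtain ⟨g, hg⟩ := MulAction.exists_smul_eq J2 (xk 0) x
  have hfix : (g⁻¹ * u * g⁻¹⁻¹) • xk 0 = xk 0 := by
    rw [inv_inv, mul_smul, mul_smul, hg, hx, ← hg, inv_smul_smul]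
  have h4 := pow4_of_fix hfix (by rw [orderOf_conj', hu])
  refine ⟨x, ?_⟩
  rw [conj_pow'] at h4
  have : u ^ 4 = g * io (xk 0) * g⁻¹ := by
    rw [← h4]
    group
  rw [this, ← io_smul, hg]

theorem aut_io (α : MulAut J2) (x : XR) : ∃ y : XR, α (io x) = io y := by
  obtain ⟨u, hu, e⟩ := io_eq_pow4 x
  have h8 : orderOf (α u) = 8 := by rw [α.orderOf_eq, hu]
  obtain ⟨y, hy⟩ := pow4_eq_io h8
  exact ⟨y, by rw [← e, map_pow, hy]⟩

/-- every automorphism permutes the reflections -/
theorem exists_Ind (α : MulAut J2) : ∃ f, Ind α f := by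
  classical
  refine ⟨fun p => idxOf (Classical.choose (aut_io α (xk p))), ?_⟩
  intro p _
  refine ⟨?_, idxOf_lt _⟩
  rw [xk_idxOf]
  exact Classical.choose_spec (aut_io α (xk p))

end Cfsg.Agent.H10.J2S
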