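import Cfsg.Agent.H10.J2S.OutDefs

/-! kernel checks for the automorphisms of J2 (helper10) -/

set_option autoImplicit false
set_option maxRecDepth 100000

namespace Cfsg.Agent.H10.J2S

open Cfsg.Agent.H9.J2 Cfsg.Spor

theorem w8s_mem : w8s ∈ stabW := by decide +kernel

theorem w8s_pow : powOK w8s 8 = true := by decide +kernel

theorem w8s_ne : Nat.iterate (actW w8s) 4 1 ≠ 1 := by decide +kernel

theorem ord8_ok : ∀ w ∈ stabW, powOK w 8 = true → powOK w 4 = true ∨ agree4 w = true := by
  decide +kernel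

theorem op_0_19 : op 0 19 = 19 := by decide +kernel

theorem fix0_ok : ∀ q ∈ List.range 315, op 0 q = q → q ≠ 0 → ∃ w ∈ stabW, actW w q = 19 := by
  decide +kernel

theorem stab19_fix : ∀ w ∈ stab19W, actW w 0 = 0 ∧ actW w 19 = 19 := by decide +kernel

theorem rel1_base : relOK1 12 = true := by decide +kernel

theorem rel1_ok : ∀ c ∈ List.range 315, relOK1 c = true →
    ∃ w ∈ stab19W, actW w c = 12 ∨ actW w c = 14 := by decide +kernel

theorem rel2_base : relOK2 2 = true := by decide +kernel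

theorem rel2_ok : ∀ d ∈ List.range 315, relOK2 d = true → ∃ x ∈ u4, actW x.1 d = 2 := by
  decide +kernel

theorem u4_fix : ∀ x ∈ u4, actW x.1 0 = 0 ∧ actW x.1 19 = 19 ∧ actW x.1 12 = 12 := by
  decide +kernel

theorem prog3_ok : frcList (evalSLP prog3 [0, 19, 12, 2])
    (fun l => (List.range 315).all (fun p => memN p l)) = true := by decide +kernel

theorem nu_ok : ∀ p ∈ List.range 315, nu p < 315 ∧ nu (nu p) = p := by decide +kernel

theorem nu_vals : nu 0 = 0 ∧ nu 19 = 19 ∧ nu 12 = 14 ∧ nu 2 = 2 ∧ nu 14 = 12 := by decide +kernel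

theorem nu_hom_ok : (List.range 315).all nuChk = true := by decide +kernel

theorem no_inner : ∀ w ∈ stabW, ¬(actW w 19 = 19 ∧ actW w 12 = 14 ∧ actW w 2 = 2) := by
  decide +kernel

end Cfsg.Agent.H10.J2S
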