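import Cfsg.Agent.H10.J2S.Spec

/-! generated: data for the automorphisms of J2 — words mapping the point 44 to each point, straight-line
programs in the quandle of the 315 reflections, the outer permutation (helper10) -/

set_option autoImplicit false
set_option maxRecDepth 100000

namespace Cfsg.Agent.H10.J2S

/-- words `w` with `actW w 44 = p`, for `p = 0, ..., 314` -/
def wTL : List (List ℕ) :=
  [[3, 2, 0],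
   [2, 0, 1, 0, 3, 1],
   [2, 3, 1, 0, 3, 1],
   [1, 3, 1, 0, 3],
   [1, 2, 1, 2, 1],
   [1, 2, 0, 1, 3, 1, 2],
   [1, 2, 0, 1, 0, 3, 1],
   [2, 0, 1, 3, 1, 3],
   [3, 1, 3],
   [3, 2, 3, 1, 3, 0],
   [1, 3, 0, 2, 0, 1],
   [2, 1, 0],
   [2, 1, 2, 1, 3, 1],
   [2, 1, 2, 1, 3, 2, 0],
   [1, 3, 1, 2],
   [3, 1, 0, 1],
   [1, 2, 0, 3, 0, 3],
   [2, 1, 2, 1, 0],
   [2, 0, 1, 3, 1],
   [2, 0, 3, 0, 3],
   [2, 0, 3],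
   [1, 3],
   [1, 2, 3, 0, 2],
   [1, 2, 1, 3, 0, 3],
   [2, 0, 1, 0, 1],
   [2, 1, 0, 2],
   [2, 3, 1, 0, 3, 2],
   [1, 3, 2, 3, 1, 3, 0],
   [1, 3, 0, 2, 0],
   [2, 3, 0, 3, 1, 0],
   [2, 3, 1, 0, 3],
   [1, 2, 1, 0, 2, 0, 3],
   [2, 1, 3, 1],
   [1, 3, 0, 1],
   [1, 2, 3, 1, 2],
   [2, 3, 0, 1, 3, 2],
   [1, 2, 3, 0, 2, 1, 2],
   [1, 2, 1],
   [1, 3, 0, 1, 0, 3],
   [1, 2, 1, 3, 0, 1, 3],
   [2, 3, 1],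
   [1, 2, 1, 3, 1, 2],
   [2, 3, 2, 1, 0],
   [3, 1, 0, 2, 0, 3],
   [],
   [3, 1, 2, 3, 1, 3, 2],
   [1, 3, 2, 3, 1, 3, 1],
   [3, 1, 0, 3, 1, 3],
   [1, 3, 0, 2, 3],
   [2, 3, 2, 0],
   [2, 0, 3, 1],
   [1, 3, 1, 0, 1],
   [2, 0],
   [1, 2, 3, 0, 3, 1, 0],
   [2, 3, 2, 3, 0],
   [2, 3, 0, 1, 3, 0],
   [2, 3, 0, 1, 3, 0, 2],
   [1, 3, 0],
   [3, 1, 3, 2, 1],
   [3, 1, 0, 3, 2, 1],
   [1, 2, 0, 1, 3],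
   [1, 3, 2, 3],
   [2, 0, 1, 0, 3],
   [1, 2, 1, 0, 3, 2, 0],
   [1, 2, 3],
   [1, 3, 0, 1, 3],
   [1, 2, 0, 1, 3, 1, 3],
   [1, 2, 3, 1, 0, 3, 1],
   [1, 2, 0, 1, 2],
   [3, 2, 0, 3, 1],
   [3, 1, 0, 2, 3, 0],
   [1, 2, 0, 1, 0, 3],
   [3, 2, 0, 3, 1, 3],
   [3, 2, 0, 1, 2],
   [1, 2, 1, 3, 1],
   [1, 2, 3, 0, 3],
   [1, 2, 3, 1],
   [1, 3, 2, 0],
   [1, 3, 0, 2, 0, 1, 3],
   [1, 3, 2, 0, 1],
   [1, 3, 1, 3, 2, 3, 0],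
   [3, 2, 0, 1],
   [3, 1, 2, 0, 3, 2, 3],
   [1, 3, 0, 3, 2],
   [1, 2, 1, 0, 3, 1, 3],
   [1, 2, 1, 2, 0, 3],
   [3, 1, 2, 3, 1],
   [1, 2, 0, 1, 3, 0, 1, 2],
   [1, 2, 3, 0, 1, 3, 2],
   [1, 2, 1, 0, 3, 0, 1],
   [3, 1, 3, 1, 2],
   [1, 2, 3, 1, 3, 1],
   [1, 2, 1, 0, 3, 2],
   [3, 1, 0, 2, 3],
   [3, 2, 0, 1, 0, 3],
   [3, 1, 2, 0, 1],
   [1, 2, 0, 1, 2, 1, 2],
   [2, 3, 0, 1, 3, 2, 0],
   [1, 2, 0, 1, 2, 3, 1],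
   [2, 1, 3, 0, 3],
   [2, 1, 2, 0],
   [1, 2, 1, 3, 2, 1],
   [1, 2, 0, 3],
   [1, 2, 3, 2, 1],
   [2, 1, 2, 1, 3, 0],
   [1, 2, 3, 2, 0],
   [1, 2, 1, 0],
   [3, 2],
   [1, 2, 3, 2, 3, 1],
   [2, 0, 3, 0, 3, 1],
   [2, 3, 1, 0],
   [3, 1, 2, 0, 3],
   [1, 3, 1],
   [2, 3, 1, 2],
   [2, 0, 3, 0],
   [1, 3, 0, 3, 2, 1],
   [1, 2, 3, 0, 1, 3, 0],
   [1, 3, 0, 3],
   [2, 1, 0, 3, 0],
   [1, 2, 0, 1, 3, 0, 3],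
   [3, 2, 0, 3],
   [1, 2, 1, 0, 3, 1, 0],
   [2, 1, 2, 1, 0, 1],
   [2, 1, 0, 2, 0],
   [1, 3, 1, 0, 3, 2],
   [1, 3, 0, 2, 3, 1],
   [2, 3, 1, 0, 3, 0, 1],
   [3, 1, 3, 2],
   [2, 0, 1, 3],
   [2, 3, 0, 1, 0, 2],
   [3, 1, 2, 3],
   [3, 2, 3, 1, 3],
   [3, 1, 3, 1, 0],
   [1, 2, 0, 1, 3, 0],
   [1, 2, 0, 1, 2, 3],
   [2, 0, 1, 2],
   [2, 1, 3, 2],
   [2, 0, 1, 0, 3, 1, 0],
   [2, 0, 1, 0],
   [3, 1, 3, 0],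
   [3, 1, 0, 3, 1],
   [1, 2, 3, 1, 0, 3, 2],
   [1, 3, 1, 3, 2, 1],
   [1, 2, 1, 2, 0],
   [2, 3, 0, 3, 1],
   [2, 3, 1, 0, 3, 2, 3],
   [1, 2, 3, 1, 0, 3],
   [2, 1, 3, 0, 3, 2],
   [1, 2, 3, 1, 0, 3, 0],
   [3, 2, 3, 1],
   [1, 2, 3, 0],
   [1, 2, 3, 2, 3],
   [3, 1, 2, 0, 3, 0],
   [1, 3, 2, 3, 1],
   [1, 2, 1, 3, 0],
   [1, 2, 1, 0, 1],
   [1, 2, 1, 0, 2, 0],
   [1, 2, 1, 3, 2],
   [2, 3, 2, 3, 1, 3],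
   [2, 3, 1, 3, 2, 3],
   [2, 1, 2, 1, 3, 0, 2],
   [1, 2, 0, 1],
   [1, 2, 1, 0, 2, 1],
   [1, 2, 0],
   [1, 2, 3, 0, 1, 3],
   [1, 2, 0, 3, 0, 1],
   [1, 3, 2, 0, 3],
   [1, 2, 1, 0, 3, 1, 0, 1],
   [1, 2, 0, 1, 0],
   [1, 2, 3, 1, 3, 1, 2],
   [2, 0, 1, 3, 0],
   [1, 3, 1, 0],
   [1, 2, 0, 1, 3, 1, 0],
   [1, 2, 1, 3, 2, 1, 3],
   [1, 2, 3, 0, 3, 1, 0, 1],
   [2, 3, 0, 1, 3],
   [2, 0, 1, 3, 0, 1, 3],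
   [3, 1, 2, 3, 0, 1],
   [1, 2, 1, 0, 3, 0],
   [1, 2, 3, 0, 3, 1],
   [1, 2, 3, 1, 0],
   [1, 2, 0, 3, 2],
   [1, 2, 3, 0, 1],
   [2, 3, 0],
   [1, 2, 0, 3, 2, 0],
   [3, 1, 3, 2, 3],
   [1, 3, 2, 3, 1, 3],
   [2, 0, 1, 3, 0, 1],
   [3],
   [2, 1, 3, 1, 3, 2],
   [2, 1, 0, 2, 3],
   [2, 3, 2],
   [1, 2, 0, 3, 0, 3, 1],
   [2, 0, 3, 0, 3, 1, 0],
   [2, 3, 2, 3, 1, 2],
   [3, 1],
   [3, 1, 2, 0, 3, 2],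
   [1, 2, 1, 0, 3, 1],
   [2, 3, 0, 1, 2],
   [2, 1, 2, 0, 3],
   [3, 1, 0, 2, 0],
   [2, 3, 1, 0, 1],
   [1, 2, 1, 0, 3, 1, 2],
   [1, 2, 1, 0, 2, 3, 1],
   [1, 2, 0, 1, 2, 1],
   [1, 2, 0, 3, 0],
   [1, 3, 0, 2],
   [2, 1, 2, 1],
   [1, 2, 0, 1, 3, 1],
   [2, 1, 2],
   [1, 2, 3, 1, 3],
   [2, 3, 0, 1, 0, 2, 3],
   [1, 3, 2, 0, 1, 0],
   [2, 0, 3, 1, 3],
   [3, 1, 0, 2],
   [1, 2, 1, 0, 2, 3, 1, 3],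
   [1, 2, 1, 3, 1, 2, 3],
   [3, 1, 3, 1],
   [2, 1, 0, 1],
   [1, 2, 1, 0, 2, 3],
   [1, 3, 0, 3, 2, 3],
   [1, 3, 1, 2, 3, 1],
   [1, 3, 1, 3, 0],
   [3, 1, 2, 3, 0],
   [1, 2, 3, 0, 2, 0],
   [2, 0, 1],
   [3, 1, 0],
   [1, 3, 2],
   [1, 2, 3, 1, 2, 0, 3],
   [1, 3, 1, 3, 2, 3],
   [2, 3, 1, 3, 1],
   [2, 3, 2, 3],
   [2, 1, 3, 1, 3, 1],
   [2, 3, 0, 3],
   [1, 3, 1, 3, 0, 3],
   [2, 0, 3, 0, 1, 2],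
   [1, 2],
   [1, 3, 1, 3, 2, 3, 0, 1],
   [3, 2, 3, 1, 3, 0, 3],
   [3, 1, 0, 2, 3, 2],
   [2, 1, 3, 0],
   [2, 3, 0, 1],
   [2, 3, 1, 0, 3, 2, 0],
   [1, 2, 1, 0, 2],
   [1, 2, 0, 3, 2, 3],
   [2, 0, 3, 0, 1, 3],
   [3, 1, 2, 3, 1, 3],
   [1, 2, 0, 1, 3, 0, 1],
   [3, 1, 2, 3, 1, 2],
   [2, 1, 2, 1, 3, 2],
   [3, 1, 2, 0],
   [2, 1, 0, 3],
   [1, 2, 1, 0, 3],
   [1, 2, 0, 1, 0, 1],
   [2, 0, 3, 0, 1],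
   [1, 2, 1, 3, 0, 1],
   [1, 2, 1, 2, 0, 1],
   [2, 0, 1, 3, 1, 0],
   [2, 1, 3],
   [1, 2, 1, 3],
   [3, 1, 0, 3],
   [3, 1, 2, 0, 1, 2],
   [1, 2, 3, 2],
   [2, 3, 2, 1],
   [1, 3, 0, 1, 0],
   [2, 1, 3, 0, 1, 2],
   [2, 1, 3, 1, 3, 2, 1],
   [2, 3],
   [1, 3, 0, 1, 0, 3, 2],
   [2, 0, 3, 1, 3, 1],
   [2, 1, 3, 1, 3],
   [3, 1, 0, 3, 2, 3],
   [3, 2, 3],
   [2, 3, 0, 1, 0],
   [1, 2, 3, 0, 1, 0],
   [1, 2, 1, 0, 3, 2, 3],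
   [1, 3, 1, 3],
   [2, 0, 1, 3, 1, 0, 3],
   [1, 2, 0, 3, 0, 1, 2, 0],
   [2, 1, 0, 1, 3],
   [1, 2, 1, 2, 1, 3, 1],
   [2, 0, 1, 2, 3],
   [2, 3, 2, 3, 1],
   [2, 1, 0, 3, 1],
   [3, 2, 3, 1, 3, 1],
   [2, 3, 0, 2],
   [1, 2, 0, 3, 0, 1, 0],
   [3, 1, 3, 2, 1, 3],
   [2, 1],
   [1, 2, 0, 3, 0, 1, 2],
   [2, 0, 1, 2, 3, 1],
   [2, 0, 1, 2, 3, 2],
   [2, 1, 0, 1, 3, 2],
   [3, 1, 2],
   [1, 2, 3, 0, 2, 0, 1],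
   [3, 1, 3, 2, 1, 2],
   [1, 2, 1, 2, 1, 3],
   [1, 3, 1, 0, 3, 2, 0],
   [1],
   [1, 3, 1, 2, 3],
   [2, 1, 0, 3, 0, 3],
   [2, 3, 1, 3],
   [1, 2, 1, 2],
   [1, 2, 3, 1, 2, 0],
   [2, 3, 1, 3, 2],
   [3, 2, 0, 1, 0],
   [3, 1, 2, 3, 0, 1, 3],
   [1, 2, 3, 0, 2, 1],
   [2],
   [1, 3, 1, 2, 3, 1, 3],
   [2, 1, 3, 0, 1],
   [1, 3, 1, 3, 2],
   [3, 1, 0, 3, 2],
   [2, 1, 2, 1, 3],
   [2, 3, 1, 0, 3, 0]]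

/-- straight-line program for the relations satisfied by the reflections 0, 19, 12 -/
def prog1 : List (ℕ × ℕ) := [(0, 2), (1, 2), (2, 0), (2, 1), (0, 5), (1, 6)]

def rels1 : List (ℕ × ℕ × ℕ) := [(2, 4, 8), (2, 3, 7)]

/-- straight-line program for a relation satisfied by the reflections 0, 19, 12, 2 -/
def prog2 : List (ℕ × ℕ) := [(0, 2), (0, 3), (1, 2), (1, 3), (2, 3), (0, 7), (4, 6), (5, 10), (9, 8)]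

def rels2 : List (ℕ × ℕ × ℕ) := [(2, 11, 12)]

/-- straight-line program producing all 315 reflections from 0, 19, 12, 2 -/
def prog3 : List (ℕ × ℕ) := [(0, 2), (0, 3), (1, 2), (1, 3), (2, 0), (2, 1), (2, 3), (0, 6), (0, 7), (0, 8), (0, 9), (0, 10), (1, 8), (1, 9), (1, 10), (2, 5), (2, 7), (3, 4), (3, 6), (3, 8), (3, 9), (4, 6), (4, 7), (4, 9), (4, 10), (5, 6), (5, 8), (5, 9), (6, 5), (6, 8), (6, 10), (7, 4), (7, 8), (7, 9), (8, 7), (9, 5), (0, 18), (0, 20), (0, 22), (0, 24), (0, 26), (0, 29), (0, 30), (0, 31), (0, 32), (0, 34), (0, 35), (0, 36), (0, 37), (0, 38), (0, 39), (1, 19), (1, 21), (1, 23), (1, 28), (1, 30), (1, 31), (1, 36), (1, 37), (1, 38), (1, 39), (2, 26), (2, 29), (2, 31), (2, 32), (2, 35), (2, 36), (3, 25), (3, 26), (3, 27), (3, 32), (3, 33), (3, 38), (3, 39), (4, 24), (4, 29), (4,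 31), (4, 36), (4, 37), (4, 39), (5, 16), (5, 17), (5, 18), (5, 20), (5, 25), (5, 26), (5, 27), (5, 33), (5, 34), (5, 35), (5, 36), (5, 37), (5, 38), (6, 23), (6, 30), (6, 31), (6, 36), (6, 38), (7, 13), (7, 14), (7, 27), (7, 28), (7, 32), (7, 33), (7, 39), (8, 18), (8, 29), (8, 34), (8, 35), (9, 15), (9, 28), (9, 29), (9, 35), (10, 11), (10, 12), (10, 14), (10, 16), (10, 25), (10, 26), (10, 27), (10, 31), (10, 32), (10, 33), (10, 36), (10, 38), (10, 39), (11, 26), (11, 29), (11, 32), (11, 35), (12, 8), (12, 9), (12, 10), (12, 23), (12, 24), (12, 38), (12, 39), (13, 7), (13, 18), (13, 31), (13, 35), (13, 36), (14, 35), (14, 36), (14, 38), (15, 6), (15, 9), (15, 16), (15, 17), (15, 36), (15, 38), (16, 5), (16, 29), (16, 31), (17, 29), (17, 31), (17, 36), (18, 4), (18, 8), (18, 13), (18, 14), (18, 31),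 (18, 39), (19, 6), (19, 14), (19, 26), (19, 27), (19, 32), (20, 4), (20, 16), (20, 26), (20, 32), (20, 33), (21, 11), (21, 16), (21, 18), (22, 11), (22, 14), (22, 15), (23, 6), (23, 11), (23, 12), (23, 27), (23, 31), (23, 32), (24, 4), (24, 12), (24, 26), (24, 33), (24, 36), (26, 0), (26, 1), (26, 10), (26, 11), (26, 31), (26, 37), (26, 39), (27, 36), (28, 7), (28, 11), (28, 33), (29, 22), (29, 27), (29, 33), (29, 36), (29, 38), (30, 1), (30, 24), (31, 4), (31, 10), (31, 35), (32, 1), (32, 11), (32, 36), (32, 38), (34, 11), (35, 33), (35, 39), (36, 6), (36, 10), (37, 0), (37, 23), (38, 2), (38, 21), (38, 27), (39, 2), (39, 22), (39, 33), (0, 100), (0, 129), (0, 147), (0, 153), (0, 157), (0, 161), (0, 162), (0, 165), (0, 166), (0, 172), (0, 173), (0, 180), (0, 189), (0, 191), (0, 193), (0, 194), (0,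 195), (0, 198), (0, 205), (0, 210), (0, 215), (0, 218), (0, 219), (0, 221), (0, 223), (0, 225), (0, 227), (0, 228), (0, 229), (1, 128), (1, 153), (1, 154), (1, 165), (1, 167), (1, 177), (1, 183), (1, 188), (1, 200), (1, 203), (1, 209), (1, 217), (1, 224), (1, 226), (1, 230), (1, 231), (2, 92), (2, 105), (2, 194), (2, 195), (2, 198), (2, 200), (2, 205), (2, 209), (2, 215), (2, 217), (2, 218), (2, 221), (2, 227), (2, 230), (3, 130), (3, 132), (4, 166), (4, 189), (4, 224), (4, 231), (5, 155), (5, 191), (6, 154), (6, 183), (6, 210), (6, 228), (8, 163), (8, 164), (8, 198), (9, 151), (9, 152), (9, 217), (10, 206), (10, 209), (10, 220), (10, 221), (13, 103), (14, 226)]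

/-- the outer permutation and its inverse (packed) -/
def nuP : ℕ := 0x4de6d359d4e671339a4ba5b2c95cca633097ca6551e8fc6a31198bc6e3b1c93ca243209149a492591c0600ff8240e04fe7e3f5f6f67abd1f2f87bbc9e113894462d158a4421d0f86bc6130883c32170a77c19f50579ba9d2e873bb9daec75b8dc8e57336db4d96c35dacd571385c0df6f375b8d268b51a6cf6831d92c461b159ac66732194cc65ac15eae562ad54a956aa14ea652a8d48a15027d3ac260b0176bf5f2f578ba5cae16eb55b27968b35928962984b25d2a9c4d26d3294482391e9348a490c854220d048140235188b4522510873f1fcfa7c3a9cce872381c4f6793d1e0ec773017cbc5c2d974b4592b960ac532a950a46f371b4d46c359a4d06633994c662321849e4e289409a4a2493096401f0fc7a3c1d0ec72482311c8a442110c82371c0d86a34188c06632138944c24118844420178b45c2c158a454280f07c3a1c0d06c32160a8602e14098442410068301e0e058281009038180805018080200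

def nuIP : ℕ := 0x4de6d359d4e671339a4ba5b2c95cca633097ca6551e8fc6a31198bc6e3b1c93ca243209149a492591c0600ff8240e04fe7e3f5f6f67abd1f2f87bbc9e113894462d158a4421d0f86bc6130883c32170a77c19f50579ba9d2e873bb9daec75b8dc8e57336db4d96c35dacd571385c0df6f375b8d268b51a6cf6831d92c461b159ac66732194cc65ac15eae562ad54a956aa14ea652a8d48a15027d3ac260b0176bf5f2f578ba5cae16eb55b27968b35928962984b25d2a9c4d26d3294482391e9348a490c854220d048140235188b4522510873f1fcfa7c3a9cce872381c4f6793d1e0ec773017cbc5c2d974b4592b960ac532a950a46f371b4d46c359a4d06633994c662321849e4e289409a4a2493096401f0fc7a3c1d0ec72482311c8a442110c82371c0d86a34188c06632138944c24118844420178b45c2c158a454280f07c3a1c0d06c32160a8602e14098442410068301e0e058281009038180805018080200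

/-- a word of order 8 in the point stabiliser -/
def w8s : List ℕ := [2, 3, 1, 0, 1, 3, 0]

end Cfsg.Agent.H10.J2S
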