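import Cfsg.Agent.H10.J2S.OutData

/-!
# The reflections of J2 as a quandle on their 315 indices (helper10)

`io x` is the image in `J2` of the reflection `x`; `op p q` is the index of `io (xk p) • xk q`;
`Ind α f` says that the automorphism `α` maps `io (xk p)` to `io (xk (f p))`.
-/

set_option autoImplicit false

namespace Cfsg.Agent.H10.J2S

open Cfsg.Agent.H9.J2 Cfsg.Spor MulAction

/-- the image in `J2` of a reflection -/
noncomputable def io (x : XR) : J2 := QuotientGroup.mk (rG x)

theorem io_smul (g : J2) (x : XR) : io (g • x) = g * io x * g⁻¹ := by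
  induction g using QuotientGroup.induction_on with
  | H k =>
    rw [mk_smul]
    unfold io
    rw [rG_smul]
    rfl

theorem io_mul_self (x : XR) : io x * io x = 1 := by
  unfold io
  rw [← QuotientGroup.mk_mul, rG_mul_self]
  rfl

theorem io_inv (x : XR) : (io x)⁻¹ = io x := inv_eq_of_mul_eq_one_left (io_mul_self x)

theorem jG_eq (i : ℕ) : jG i = io (xk (gm i)) := rfl

theorem jG_mul_self (i : ℕ) : jG i * jG i = 1 := io_mul_self (xk (gm i))

theorem jW_reverse (w : List ℕ) : jW w.reverse = (jW w)⁻¹ := by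
  induction w with
  | nil => simp [jW]
  | cons i w ih =>
    rw [List.reverse_cons, jW_append, ih]
    show (1 * jG i) * (jW w)⁻¹ = (jW w * jG i)⁻¹
    rw [mul_inv_rev, one_mul, inv_eq_of_mul_eq_one_left (jG_mul_self i)]

/-- the word of the reflection `p` -/
def sigW (p : ℕ) : List ℕ := (wTL.getD p []).reverse ++ 0 :: wTL.getD p []

/-- the quandle operation on the indices: `io (xk p) • xk q = xk (op p q)` -/
def op (p q : ℕ) : ℕ := actW (sigW p) q

set_option maxRecDepth 100000 in
theorem wT_ok : ∀ p ∈ List.range 315, actW (wTL.getD p []) 44 = p := by decide +kernel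

theorem io_xk {p : ℕ} (hp : p < 315) : io (xk p) = jW (sigW p) := by
  have h1 : jW (wTL.getD p []) • xk 44 = xk p := by
    obtain ⟨e, -⟩ := Rl.word (wTL.getD p []) 44 (by norm_num)
    rw [e, wT_ok p (List.mem_range.2 hp)]
  rw [← h1, io_smul]
  unfold sigW
  rw [jW_append, jW_reverse]
  rfl

theorem Rl.io {p : ℕ} (hp : p < 315) : Rl (io (xk p)) (op p) := by
  rw [io_xk hp]
  exact Rl.word _

theorem op_lt {p q : ℕ} (hp : p < 315) (hq : q < 315) : op p q < 315 := (Rl.io hp q hq).2

theorem io_smul_xk {p q : ℕ} (hp : p < 315) (hq : q < 315) : io (xk p) • xk q = xk (op p q) :=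
  (Rl.io hp q hq).1

/-- the action of the reflection `p` on the base points -/
def keyS (p : ℕ) : ℕ :=
  Nat.add (Nat.mul (Nat.add (Nat.mul (Nat.add (Nat.mul (op p 0) 512) (op p 19)) 512) (op p 12)) 512)
    (op p 2)

set_option maxRecDepth 100000 in
theorem keyS_ok : frcList ((List.range 315).map keyS) nodupB = true := by decide +kernel

theorem io_xk_inj {p q : ℕ} (hp : p < 315) (hq : q < 315) (h : io (xk p) = io (xk q)) : p = q := by
  have e : ∀ r, r < 315 → op p r = op q r := by
    intro r hr
    have h1 := io_smul_xk hp hr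
    rw [h, io_smul_xk hq hr] at h1
    exact (xk_inj (op_lt hq hr) (op_lt hp hr) h1).symm
  have hk : keyS p = keyS q := by
    unfold keyS
    rw [e 0 (by norm_num), e 19 (by norm_num), e 12 (by norm_num), e 2 (by norm_num)]
  have hn : ((List.range 315).map keyS).Nodup := by
    have := keyS_ok
    rw [frcList_eq] at this
    exact nodupB_nodup _ this
  exact List.inj_on_of_nodup_map hn (List.mem_range.2 hp) (List.mem_range.2 hq) hk

theorem exists_Rl (g : J2) : ∃ f, Rl g f :=
  ⟨fun p => idxOf (g • xk p), fun p _ => ⟨(xk_idxOf _).symm, idxOf_lt _⟩⟩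

/-- two elements acting in the same way on the reflections 0, 19, 12, 2 are equal -/
theorem eq_of_agree {a b : J2} {fa fb : ℕ → ℕ} (ha : Rl a fa) (hb : Rl b fb)
    (h : ∀ p ∈ [0, 19, 12, 2], fa p = fb p) : a = b := by
  have key : ∀ p ∈ [0, 19, 12, 2], (a⁻¹ * b) • xk p = xk p := by
    intro p hp
    have hp' : p < 315 := by
      simp only [List.mem_cons, List.not_mem_nil, or_false] at hp
      rcases hp with rfl | rfl | rfl | rfl <;> norm_num
    rw [mul_smul, (hb p hp').1, ← h p hp, ← (ha p hp').1, inv_smul_smul]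
  exact inv_mul_eq_one.1 (eq_one_of_fix (a⁻¹ * b) (key 0 (by simp)) (key 19 (by simp))
    (key 12 (by simp)) (key 2 (by simp)))

/-- the automorphism `α` acts on the reflections as `f` does on their indices -/
def Ind (α : MulAut J2) (f : ℕ → ℕ) : Prop :=
  ∀ p, p < 315 → α (io (xk p)) = io (xk (f p)) ∧ f p < 315

theorem Ind.conj {g : J2} {f : ℕ → ℕ} (h : Rl g f) : Ind (MulAut.conj g) f := by
  intro p hp
  obtain ⟨e, l⟩ := h p hp
  refine ⟨?_, l⟩
  rw [MulAut.conj_apply, ← io_smul, e]

theorem Ind.mul {α β : MulAut J2} {f k : ℕ → ℕ} (ha : Ind α f) (hb : Ind β k) :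
    Ind (α * β) (fun p => f (k p)) := by
  intro p hp
  obtain ⟨e1, l1⟩ := hb p hp
  obtain ⟨e2, l2⟩ := ha (k p) l1
  exact ⟨by rw [MulAut.mul_apply, e1, e2], l2⟩

theorem Ind.hom {α : MulAut J2} {f : ℕ → ℕ} (h : Ind α f) {p q : ℕ} (hp : p < 315) (hq : q < 315) :
    f (op p q) = op (f p) (f q) := by
  obtain ⟨e1, l1⟩ := h p hp
  obtain ⟨e2, l2⟩ := h q hq
  obtain ⟨e3, l3⟩ := h (op p q) (op_lt hp hq)
  apply io_xk_inj l3 (op_lt l1 l2)
  rw [← e3, ← io_smul_xk hp hq, io_smul, map_mul, map_mul, map_inv, e1, e2, ← io_smul,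
    io_smul_xk l1 l2]

theorem Ind.inj {α : MulAut J2} {f : ℕ → ℕ} (h : Ind α f) {p q : ℕ} (hp : p < 315) (hq : q < 315)
    (e : f p = f q) : p = q := by
  apply io_xk_inj hp hq
  apply α.injective
  rw [(h p hp).1, (h q hq).1, e]

/-- the reflections generate `J2` -/
theorem closure_io : Subgroup.closure (Set.range io) = ⊤ := by
  rw [eq_top_iff, ← iwa.is_generator]
  refine iSup_le fun f => ?_
  exact (Subgroup.zpowers_le).2 (Subgroup.subset_closure ⟨f, rfl⟩)

/-! ## straight-line programs in the quandle -/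

/-- run a straight-line program: append `op vals[a] vals[b]` for each step `(a, b)` -/
def evalSLP : List (ℕ × ℕ) → List ℕ → List ℕ
  | [], vals => vals
  | ab :: prog, vals =>
    frcN (op (vals.getD ab.1 0) (vals.getD ab.2 0)) (fun v => evalSLP prog (vals ++ [v]))

/-- check the relations `op vals[a] vals[b] = vals[e]` -/
def relChk (rels : List (ℕ × ℕ × ℕ)) (vals : List ℕ) : Bool :=
  rels.all (fun r => Nat.beq (op (vals.getD r.1 0) (vals.getD r.2.1 0)) (vals.getD r.2.2 0))

def relOK1 (c : ℕ) : Bool := frcList (evalSLP prog1 [0, 19, c]) (fun l => relChk rels1 l)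

def relOK2 (d : ℕ) : Bool := frcList (evalSLP prog2 [0, 19, 12, d]) (fun l => relChk rels2 l)

/-- the words of the stabiliser of the reflections 0 and 19 -/
def stab19W : List (List ℕ) := u3.flatMap (fun x3 => u4.map (fun x4 => x4.1 ++ x3.1))

/-- the outer permutation of the indices -/
def nu (p : ℕ) : ℕ := lk nuP p

/-- the fourth power of the word acts on the base points as the reflection 0 -/
def agree4 (w : List ℕ) : Bool :=
  [0, 19, 12, 2].all (fun b => Nat.beq (Nat.iterate (actW w) 4 b) (op 0 b))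

/-- `nu` is compatible with the reflection `p` -/
def nuChk (p : ℕ) : Bool :=
  frcList (sigW p) (fun s => frcList (sigW (nu p)) (fun s' =>
    (List.range 315).all (fun q => Nat.beq (nu (actW s q)) (actW s' (nu q)))))

end Cfsg.Agent.H10.J2S
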