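import Cfsg.Agent.H10.J2S.OutChk
import Cfsg.Prelude.Def_KGroupFacts

/-!
# Every automorphism of J2 is inner or the outer one times an inner one (helper10)

The normalisation argument: composing with inner automorphisms, an automorphism fixes the
reflections 0 and 19, maps 12 to 12 or 14 (the relations of the quandle generated by 0, 19, 12),
and then fixes 2 (a relation of 0, 19, 12, 2); the four reflections generate the quandle.
-/

set_option autoImplicit false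

namespace Cfsg.Agent.H10.J2S

open Cfsg.Agent.H9.J2 Cfsg.Spor MulAction

theorem conj_mem_inn (g : J2) : MulAut.conj g ∈ Cfsg.Inn J2 := ⟨g, rfl⟩

theorem norm_step1 {α : MulAut J2} {f : ℕ → ℕ} (h : Ind α f) :
    ∃ c ∈ Cfsg.Inn J2, ∃ f', Ind (c * α) f' ∧ f' 0 = 0 := by
  have hk := (h 0 (by norm_num)).2
  obtain ⟨g, hg⟩ := MulAction.exists_smul_eq J2 (xk (f 0)) (xk 0)
  obtain ⟨fg, hfg⟩ := exists_Rl g
  refine ⟨MulAut.conj g, conj_mem_inn g, fun p => fg (f p), (Ind.conj hfg).mul h, ?_⟩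
  obtain ⟨e, l⟩ := hfg (f 0) hk
  rw [hg] at e
  exact (xk_inj (by norm_num) l e).symm

theorem norm_word {α : MulAut J2} {f : ℕ → ℕ} (h : Ind α f) (w : List ℕ) :
    Ind (MulAut.conj (jW w) * α) (fun p => actW w (f p)) :=
  (Ind.conj (Rl.word w)).mul h

theorem norm_step2 {α : MulAut J2} {f : ℕ → ℕ} (h : Ind α f) (h0 : f 0 = 0) :
    ∃ c ∈ Cfsg.Inn J2, ∃ f', Ind (c * α) f' ∧ f' 0 = 0 ∧ f' 19 = 19 := by
  have hq := (h 19 (by norm_num)).2
  have e1 : op 0 (f 19) = f 19 := by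
    have := h.hom (p := 0) (q := 19) (by norm_num) (by norm_num)
    rw [op_0_19, h0] at this
    exact this.symm
  have e2 : f 19 ≠ 0 := by
    intro e
    have := h.inj (p := 19) (q := 0) (by norm_num) (by norm_num) (by rw [e, h0])
    exact absurd this (by norm_num)
  obtain ⟨w, hw, e3⟩ := fix0_ok (f 19) (List.mem_range.2 hq) e1 e2
  refine ⟨MulAut.conj (jW w), conj_mem_inn _, fun p => actW w (f p), norm_word h w, ?_, e3⟩
  show actW w (f 0) = 0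
  rw [h0, stab_fix w hw]

theorem norm_step3 {α : MulAut J2} {f : ℕ → ℕ} (h : Ind α f) (h0 : f 0 = 0) (h19 : f 19 = 19)
    (hrel : relOK1 (f 12) = true) :
    ∃ c ∈ Cfsg.Inn J2, ∃ f', Ind (c * α) f' ∧ f' 0 = 0 ∧ f' 19 = 19 ∧
      (f' 12 = 12 ∨ f' 12 = 14) := by
  have hq := (h 12 (by norm_num)).2
  obtain ⟨w, hw, e3⟩ := rel1_ok (f 12) (List.mem_range.2 hq) hrel
  obtain ⟨a0, a19⟩ := stab19_fix w hw
  refine ⟨MulAut.conj (jW w), conj_mem_inn _, fun p => actW w (f p), norm_word h w, ?_, ?_, e3⟩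
  · show actW w (f 0) = 0
    rw [h0, a0]
  · show actW w (f 19) = 19
    rw [h19, a19]

theorem norm_step5 {α : MulAut J2} {f : ℕ → ℕ} (h : Ind α f) (h0 : f 0 = 0) (h19 : f 19 = 19)
    (h12 : f 12 = 12) (hrel : relOK2 (f 2) = true) :
    ∃ c ∈ Cfsg.Inn J2, ∃ f', Ind (c * α) f' ∧ f' 0 = 0 ∧ f' 19 = 19 ∧ f' 12 = 12 ∧ f' 2 = 2 := by
  have hq := (h 2 (by norm_num)).2
  obtain ⟨x, hx, e3⟩ := rel2_ok (f 2) (List.mem_range.2 hq) hrel
  obtain ⟨a0, a19, a12⟩ := u4_fix x hx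
  refine ⟨MulAut.conj (jW x.1), conj_mem_inn _, fun p => actW x.1 (f p), norm_word h x.1,
    ?_, ?_, ?_, e3⟩
  · show actW x.1 (f 0) = 0
    rw [h0, a0]
  · show actW x.1 (f 19) = 19
    rw [h19, a19]
  · show actW x.1 (f 12) = 12
    rw [h12, a12]

theorem norm_step6 {α : MulAut J2} {f : ℕ → ℕ} (h : Ind α f) (hf : ∀ p, p < 315 → f p = p) :
    α = 1 := by
  have key : α.toMonoidHom = MonoidHom.id J2 := by
    apply MonoidHom.eq_of_eqOn_dense closure_io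
    rintro _ ⟨x, rfl⟩
    obtain ⟨p, hp, rfl⟩ := exists_idx x
    show α (io (xk p)) = io (xk p)
    rw [(h p hp).1, hf p hp]
  ext g
  exact congrArg (fun m : J2 →* J2 => m g) key

/-- every automorphism is inner, or the outer one times an inner one -/
theorem inner_or
    (hI : ∀ α : MulAut J2, ∃ f, Ind α f)
    (h1 : ∀ (α : MulAut J2) (f : ℕ → ℕ), Ind α f → f 0 = 0 → f 19 = 19 → relOK1 (f 12) = true)
    (h2 : ∀ (α : MulAut J2) (f : ℕ → ℕ), Ind α f → f 0 = 0 → f 19 = 19 → f 12 = 12 →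
      relOK2 (f 2) = true)
    (h3 : ∀ (α : MulAut J2) (f : ℕ → ℕ), Ind α f → f 0 = 0 → f 19 = 19 → f 12 = 12 → f 2 = 2 →
      ∀ p, p < 315 → f p = p)
    {φ : MulAut J2} (hφ : Ind φ⁻¹ nu) (α : MulAut J2) :
    α ∈ (MulAut.conj : J2 →* MulAut J2).range ∨
      φ⁻¹ * α ∈ (MulAut.conj : J2 →* MulAut J2).range := by
  show α ∈ Cfsg.Inn J2 ∨ φ⁻¹ * α ∈ Cfsg.Inn J2
  obtain ⟨f0, hf0⟩ := hI α
  obtain ⟨c1, hc1, f1, hf1, a1⟩ := norm_step1 hf0
  obtain ⟨c2, hc2, f2, hf2, a2, b2⟩ := norm_step2 hf1 a1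
  obtain ⟨c3, hc3, f3, hf3, a3, b3, d3⟩ := norm_step3 hf2 a2 b2 (h1 _ _ hf2 a2 b2)
  rcases d3 with d3 | d3
  · left
    obtain ⟨c5, hc5, f5, hf5, a5, b5, d5, e5⟩ := norm_step5 hf3 a3 b3 d3 (h2 _ _ hf3 a3 b3 d3)
    have hone := norm_step6 hf5 (h3 _ _ hf5 a5 b5 d5 e5)
    have e : α = (c5 * c3 * c2 * c1)⁻¹ :=
      eq_inv_of_mul_eq_one_right (by simpa [mul_assoc] using hone)
    rw [e]
    exact inv_mem (mul_mem (mul_mem (mul_mem hc5 hc3) hc2) hc1)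
  · right
    have hγ : Ind (φ⁻¹ * (c3 * (c2 * (c1 * α)))) (fun p => nu (f3 p)) := hφ.mul hf3
    obtain ⟨n0, n19, -, -, n14⟩ := nu_vals
    have g0 : (fun p => nu (f3 p)) 0 = 0 := by show nu (f3 0) = 0; rw [a3, n0]
    have g19 : (fun p => nu (f3 p)) 19 = 19 := by show nu (f3 19) = 19; rw [b3, n19]
    have g12 : (fun p => nu (f3 p)) 12 = 12 := by show nu (f3 12) = 12; rw [d3, n14]
    have hr := h2 (φ⁻¹ * (c3 * (c2 * (c1 * α)))) (fun p => nu (f3 p)) hγ g0 g19 g12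
    obtain ⟨c5, hc5, f5, hf5, a5, b5, d5, e5⟩ := norm_step5 hγ g0 g19 g12 hr
    have hone := norm_step6 hf5 (h3 _ _ hf5 a5 b5 d5 e5)
    have e : α = (c5 * φ⁻¹ * (c3 * c2 * c1))⁻¹ :=
      eq_inv_of_mul_eq_one_right (by simpa [mul_assoc] using hone)
    have e2 : φ⁻¹ * α = φ⁻¹ * (c3 * c2 * c1)⁻¹ * φ⁻¹⁻¹ * c5⁻¹ := by
      rw [e]
      group
    rw [e2]
    have hd : (c3 * c2 * c1)⁻¹ ∈ Cfsg.Inn J2 := inv_mem (mul_mem (mul_mem hc3 hc2) hc1)
    exact mul_mem ((Cfsg.innNormal J2).conj_mem _ hd φ⁻¹) (inv_mem hc5)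

end Cfsg.Agent.H10.J2S
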