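import Cfsg.Agent.H10.J2S.OutChk
import Cfsg.Agent.H24.J2AutPerm

/-!
# S2066: the outer automorphism of J2 induced by the permutation `nu` of the 315 reflections
(helper10)
-/

set_option autoImplicit false

namespace Cfsg.Agent.H10.J2S

open Cfsg.Agent.H9.J2 Cfsg.Spor MulAction

theorem nu_lt {p : ℕ} (hp : p < 315) : nu p < 315 := (nu_ok p (List.mem_range.2 hp)).1

theorem nu_nu {p : ℕ} (hp : p < 315) : nu (nu p) = p := (nu_ok p (List.mem_range.2 hp)).2

theorem nu_op {p q : ℕ} (hp : p < 315) (hq : q < 315) : nu (op p q) = op (nu p) (nu q) := by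
  have h := List.all_eq_true.1 nu_hom_ok p (List.mem_range.2 hp)
  unfold nuChk at h
  rw [frcList_eq, frcList_eq] at h
  have h2 := List.all_eq_true.1 h q (List.mem_range.2 hq)
  exact Nat.eq_of_beq_eq_true h2

/-- the permutation of the reflections given by `nu` -/
noncomputable def nuX : Equiv.Perm XR where
  toFun x := xk (nu (idxOf x))
  invFun x := xk (nu (idxOf x))
  left_inv x := by
    show xk (nu (idxOf (xk (nu (idxOf x))))) = x
    rw [idxOf_xk (nu_lt (idxOf_lt x)), nu_nu (idxOf_lt x), xk_idxOf]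
  right_inv x := by
    show xk (nu (idxOf (xk (nu (idxOf x))))) = x
    rw [idxOf_xk (nu_lt (idxOf_lt x)), nu_nu (idxOf_lt x), xk_idxOf]

theorem nuX_xk {p : ℕ} (hp : p < 315) : nuX (xk p) = xk (nu p) := by
  show xk (nu (idxOf (xk p))) = xk (nu p)
  rw [idxOf_xk hp]

theorem nuX_inv_xk {p : ℕ} (hp : p < 315) : nuX⁻¹ (xk p) = xk (nu p) := by
  rw [Equiv.Perm.inv_eq_iff_eq, nuX_xk (nu_lt hp), nu_nu hp]

theorem toPerm_nu {p : ℕ} (hp : p < 315) :
    (MulAction.toPerm (io (xk (nu p))) : Equiv.Perm XR) =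
      nuX * MulAction.toPerm (io (xk p)) * nuX⁻¹ := by
  refine Equiv.ext fun y => ?_
  obtain ⟨r, hr, rfl⟩ := exists_idx y
  rw [Equiv.Perm.mul_apply, Equiv.Perm.mul_apply, MulAction.toPerm_apply, MulAction.toPerm_apply,
    nuX_inv_xk hr, io_smul_xk (nu_lt hp) hr, io_smul_xk hp (nu_lt hr),
    nuX_xk (op_lt hp (nu_lt hr)), nu_op hp (nu_lt hr), nu_nu hr]

/-- there is an automorphism of `J2` inducing `nu` on the reflections, and so does its inverse -/
theorem exists_outer : ∃ φ : MulAut J2, Ind φ nu ∧ Ind φ⁻¹ nu := by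
  have hf : FaithfulSMul J2 XR := j2_faithful
  obtain ⟨φ, hφ⟩ := Cfsg.Agent.H24.J2Out.exists_aut_of_perm (G := J2) (X := XR) nuX
    (Set.range io) closure_io (by
      rintro s ⟨x, rfl⟩
      obtain ⟨p, hp, rfl⟩ := exists_idx x
      exact ⟨io (xk (nu p)), toPerm_nu hp⟩)
  have h1 : Ind φ nu := by
    intro p hp
    refine ⟨?_, nu_lt hp⟩
    apply MulAction.toPerm_injective (α := J2) (β := XR)
    rw [hφ, toPerm_nu hp]
  refine ⟨φ, h1, ?_⟩
  intro p hp
  refine ⟨?_, nu_lt hp⟩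
  rw [MulAut.inv_apply, MulEquiv.symm_apply_eq, (h1 (nu p) (nu_lt hp)).1, nu_nu hp]

end Cfsg.Agent.H10.J2S
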